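import Mathlib
import Groth.Prelude.Def_AffAlg
import Groth.Agent.ProjLib.AffineGlue

/-! Morphisms into a scheme affine over the base are maps of the direct-image algebras. -/

set_option autoImplicit false

namespace Groth.Agent.AffAlgLib

open CategoryTheory CategoryTheory.Limits AlgebraicGeometry TopologicalSpace Opposite

universe u

variable {X Y S : Scheme.{u}}

theorem ι_comp_eq_toSpecΓ (h : Y ⟶ X) {W : X.Opens} (hW : IsAffineOpen W) (V : Y.Opens)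
    (e : V ≤ h ⁻¹ᵁ W) :
    V.ι ≫ h = V.toSpecΓ ≫ Spec.map (h.appLE W V e) ≫ hW.fromSpec := by
  rw [Scheme.Opens.toSpecΓ_SpecMap_appLE_assoc, hW.toSpecΓ_fromSpec, Scheme.Hom.resLE_comp_ι]

theorem toSpecΓ_cancel (V : Y.Opens) {R : CommRingCat.{u}} {a b : R ⟶ Γ(Y, V)}
    (h : V.toSpecΓ ≫ Spec.map a = V.toSpecΓ ≫ Spec.map b) : a = b := by
  have h' := congrArg (fun k : V.toScheme ⟶ Spec R ↦ (Scheme.ΓSpecIso R).inv ≫ k.appTop) h
  simp [Scheme.Opens.toSpecΓ_appTop, -Scheme.Opens.topIso_inv] at h'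
  exact h'

variable (f : X ⟶ S) (g : Y ⟶ S)

theorem algHom_app (h : Y ⟶ X) (w : h ≫ f = g) (U : S.Opens)
    (e : g ⁻¹ᵁ U ≤ h ⁻¹ᵁ f ⁻¹ᵁ U) :
    (AffAlg.algHom f g h w).app (op U) = h.appLE (f ⁻¹ᵁ U) (g ⁻¹ᵁ U) e := by
  subst w
  simp [AffAlg.algHom, Scheme.Hom.appLE]
  erw [Category.comp_id]

variable [IsAffineHom f]

theorem algOf_injective : Function.Injective (AffAlg.algOf f g) := by
  rintro ⟨h₁, w₁⟩ ⟨h₂, w₂⟩ he
  have he' : AffAlg.algHom f g h₁ w₁ = AffAlg.algHom f g h₂ w₂ := congrArg Subtype.val he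
  clear he
  refine Subtype.ext (ProjLib.hom_ext_affine g fun U hU ↦ ?_)
  have e₁ : g ⁻¹ᵁ U ≤ h₁ ⁻¹ᵁ f ⁻¹ᵁ U := by rw [← Scheme.Hom.comp_preimage, w₁]
  have e₂ : g ⁻¹ᵁ U ≤ h₂ ⁻¹ᵁ f ⁻¹ᵁ U := by rw [← Scheme.Hom.comp_preimage, w₂]
  rw [ι_comp_eq_toSpecΓ h₁ (hU.preimage f) _ e₁, ι_comp_eq_toSpecΓ h₂ (hU.preimage f) _ e₂,
    ← algHom_app f g h₁ w₁ U e₁, ← algHom_app f g h₂ w₂ U e₂, he']

theorem algOf_surjective : Function.Surjective (AffAlg.algOf f g) := by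
  rintro ⟨ω, hω⟩
  let F : ∀ (U : S.Opens), IsAffineOpen U → ((g ⁻¹ᵁ U).toScheme ⟶ X) := fun U hU ↦
    (g ⁻¹ᵁ U).toSpecΓ ≫ Spec.map (ω.app (op U)) ≫ (hU.preimage f).fromSpec
  have hF : ∀ (U : S.Opens) (hU : IsAffineOpen U) (r : Γ(S, U)),
      Y.homOfLE (g.preimage_mono (S.basicOpen_le r)) ≫ F U hU =
        F (S.basicOpen r) (hU.basicOpen r) := by
    intro U hU r
    simp only [F]
    rw [← Scheme.Opens.toSpecΓ_SpecMap_presheaf_map_assoc, ← Spec.map_comp_assoc]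
    have hn : ω.app (op U) ≫ Y.presheaf.map (homOfLE (g.preimage_mono (S.basicOpen_le r))).op =
        X.presheaf.map (homOfLE (f.preimage_mono (S.basicOpen_le r))).op ≫
          ω.app (op (S.basicOpen r)) :=
      (ω.naturality (homOfLE (S.basicOpen_le r)).op).symm
    rw [hn, Spec.map_comp_assoc, (hU.preimage f).map_fromSpec ((hU.basicOpen r).preimage f)]
  let h := ProjLib.glueAffine g F hF
  have hh : ∀ (U : S.Opens) (hU : IsAffineOpen U), (g ⁻¹ᵁ U).ι ≫ h = F U hU :=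
    ProjLib.ι_glueAffine g F hF
  have w : h ≫ f = g := by
    refine ProjLib.hom_ext_affine g fun U hU ↦ ?_
    rw [reassoc_of% (hh U hU)]
    simp only [F, Category.assoc]
    have hc : f.app U ≫ ω.app (op U) = g.app U := NatTrans.congr_app hω (op U)
    rw [← hU.SpecMap_appLE_fromSpec f (hU.preimage f) le_rfl, ← Scheme.Hom.app_eq_appLE,
      ← Spec.map_comp_assoc, hc, Scheme.Opens.toSpecΓ_naturality_assoc, hU.toSpecΓ_fromSpec,
      morphismRestrict_ι]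
  refine ⟨⟨h, w⟩, Subtype.ext ?_⟩
  let G : TopCat.Sheaf CommRingCat.{u} S.carrier :=
    ⟨g.base _* Y.presheaf, TopCat.Sheaf.pushforward_sheaf_of_sheaf _ Y.sheaf.property⟩
  apply (Functor.IsCoverDense.restrictHomEquivHom (G := Scheme.AffineZariskiSite.toOpensFunctor S)
    (K := Opens.grothendieckTopology S) (ℱ := f.base _* X.presheaf) (ℱ' := G)).symm.injective
  ext ⟨⟨U, hU'⟩⟩ : 2
  have hU : IsAffineOpen U := hU'
  show (AffAlg.algHom f g h w).app (op U) = ω.app (op U)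
  have e : g ⁻¹ᵁ U ≤ h ⁻¹ᵁ f ⁻¹ᵁ U := by rw [← Scheme.Hom.comp_preimage, w]
  rw [algHom_app f g h w U e]
  apply toSpecΓ_cancel
  rw [← cancel_mono (hU.preimage f).fromSpec, Category.assoc, Category.assoc,
    ← ι_comp_eq_toSpecΓ h (hU.preimage f) _ e]
  exact hh U hU

end Groth.Agent.AffAlgLib
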